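import Mathlib
import Groth.Prelude.Def_SGA1
import Groth.Prelude.Def_EtRam
import Groth.Agent.Lib.Helper9.EtRam.Dom15
import Groth.Agent.Lib.Helper9.EtRam.Dom19
import Groth.Agent.Lib.Helper7.TameGal.Proper

set_option linter.style.haveILetI false
set_option linter.unusedVariables false
set_option linter.unusedSectionVars false
set_option autoImplicit false
set_option backward.isDefEq.respectTransparency.types false
set_option backward.isDefEq.respectTransparency false
set_option synthInstance.maxHeartbeats 400000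
set_option maxHeartbeats 1600000

universe u

open Polynomial IsLocalRing

namespace Groth.Agent.Helper7.KummerTame

open Groth.Agent.Helper9.EtRamLib EtRam Groth.Agent.Lib.Helper7.TameGal

/-- `R[X]/(p)` is formally unramified over `R` when `p'` is invertible modulo `p`. -/
theorem formallyUnramified_adjoinRoot {R : Type u} [CommRing R] (p : R[X])
    (hu : IsUnit (Polynomial.aeval (AdjoinRoot.root p) (Polynomial.derivative p))) :
    Algebra.FormallyUnramified R (AdjoinRoot p) := by
  constructor
  have hroot : KaehlerDifferential.D R (AdjoinRoot p) (AdjoinRoot.root p) = 0 := by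
    have h1 := Derivation.comp_aeval_eq (AdjoinRoot.root p) (KaehlerDifferential.D R (AdjoinRoot p)) p
    rw [AdjoinRoot.aeval_eq, AdjoinRoot.mk_self, map_zero] at h1
    exact hu.smul_eq_zero.mp h1.symm
  have hall : ∀ x : AdjoinRoot p, KaehlerDifferential.D R (AdjoinRoot p) x = 0 := by
    intro x
    obtain ⟨q, rfl⟩ := AdjoinRoot.mk_surjective x
    rw [← AdjoinRoot.aeval_eq, Derivation.comp_aeval_eq, hroot, smul_zero]
  have hspan := KaehlerDifferential.span_range_derivation R (AdjoinRoot p)
  have hbot : Submodule.span (AdjoinRoot p)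
      (Set.range (KaehlerDifferential.D R (AdjoinRoot p))) = ⊥ := by
    rw [Submodule.span_eq_bot]
    rintro _ ⟨x, rfl⟩
    exact hall x
  rw [hbot] at hspan
  exact (Submodule.subsingleton_iff (AdjoinRoot p)).mp (subsingleton_of_bot_eq_top hspan)

theorem unit_root_unramified {D : Type u} [CommRing D] (e : ℕ) (he : 1 ≤ e) (c : D) (hc : IsUnit c)
    (heu : IsUnit ((e : ℕ) : D)) :
    Algebra.FormallyUnramified D (AdjoinRoot (X ^ e - C c : D[X])) := by
  apply formallyUnramified_adjoinRoot
  have hd : Polynomial.derivative (X ^ e - C c : D[X]) = C ((e : ℕ) : D) * X ^ (e - 1) := by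
    rw [Polynomial.derivative_sub, Polynomial.derivative_C, sub_zero, Polynomial.derivative_X_pow]
  rw [hd, map_mul, Polynomial.aeval_C, map_pow, Polynomial.aeval_X]
  have h1 : AdjoinRoot.root (X ^ e - C c : D[X]) ^ e = AdjoinRoot.of (X ^ e - C c : D[X]) c := by
    have := AdjoinRoot.eval₂_root (X ^ e - C c : D[X])
    rw [Polynomial.eval₂_sub, Polynomial.eval₂_pow, Polynomial.eval₂_X, Polynomial.eval₂_C] at this
    exact sub_eq_zero.mp this
  have h2 : IsUnit (AdjoinRoot.root (X ^ e - C c : D[X]) ^ e) := by rw [h1]; exact hc.map _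
  have h3 : IsUnit (AdjoinRoot.root (X ^ e - C c : D[X])) := (isUnit_pow_iff (by omega)).mp h2
  exact (heu.map (algebraMap D (AdjoinRoot (X ^ e - C c : D[X])))).mul (h3.pow _)

section Pieces

variable {D K L : Type u} [CommRing D] [IsDomain D] [IsDiscreteValuationRing D] [Field K]
  [Algebra D K] [IsFractionRing D K] [Field L] [Algebra K L]

theorem unram_piece (E : IntermediateField K L) [FiniteDimensional K E] (t : L) (htE : t ∈ E)
    (hE : E.toSubalgebra = Algebra.adjoin K {t}) (e : ℕ) (he : 1 ≤ e) (c : D) (hc : IsUnit c)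
    (heu : IsUnit ((e : ℕ) : D)) (ht : t ^ e = algebraMap K L (algebraMap D K c)) :
    IsTamelyRamified D ((algebraMap K ↥E).comp (algebraMap D K)) := by
  have hinjDK : Function.Injective (algebraMap D K) := IsFractionRing.injective D K
  letI algDE : Algebra D ↥E := ((algebraMap K ↥E).comp (algebraMap D K)).toAlgebra
  haveI : IsScalarTower D K ↥E := IsScalarTower.of_algebraMap_eq (fun _ => rfl)
  haveI : Module.Finite D (AdjoinRoot (X ^ e - C c : D[X])) :=
    (Polynomial.monic_X_pow_sub_C c (by omega)).finite_adjoinRoot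
  haveI : Algebra.FormallyUnramified D (AdjoinRoot (X ^ e - C c : D[X])) :=
    unit_root_unramified e he c hc heu
  have hev : (X ^ e - C c : D[X]).eval₂ (Algebra.ofId D ↥E) (⟨t, htE⟩ : ↥E) = 0 := by
    rw [Polynomial.eval₂_sub, Polynomial.eval₂_pow, Polynomial.eval₂_X, Polynomial.eval₂_C]
    apply sub_eq_zero.mpr
    apply Subtype.ext
    show t ^ e = algebraMap K L (algebraMap D K c)
    exact ht
  obtain ⟨ψ', hψ'root, hψ'of⟩ : ∃ ψ' : AdjoinRoot (X ^ e - C c : D[X]) →ₐ[D] ↥E,
      ((ψ' (AdjoinRoot.root _) : ↥E) : L) = t ∧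
      ∀ d, ((ψ' (AdjoinRoot.of _ d) : ↥E) : L) = algebraMap K L (algebraMap D K d) := by
    refine ⟨AdjoinRoot.liftAlgHom _ (Algebra.ofId D ↥E) ⟨t, htE⟩ hev, ?_, fun d => ?_⟩
    · rw [AdjoinRoot.liftAlgHom_root]
    · rw [AdjoinRoot.liftAlgHom_of]; rfl
  have key : ∀ z : L, z ∈ Algebra.adjoin K ({t} : Set L) →
      ∃ b b' : AdjoinRoot (X ^ e - C c : D[X]), ψ' b' ≠ 0 ∧
        z * ((ψ' b' : ↥E) : L) = ((ψ' b : ↥E) : L) := by
    intro z hz
    induction hz using Algebra.adjoin_induction with
    | mem z hz =>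
      rw [Set.mem_singleton_iff] at hz
      refine ⟨AdjoinRoot.root _, 1, ?_, ?_⟩
      · rw [map_one]; exact one_ne_zero
      · rw [hz, map_one, hψ'root]
        show t * (1 : L) = t
        exact mul_one t
    | algebraMap k =>
      obtain ⟨d1, d2, hd2, rfl⟩ := IsFractionRing.div_surjective (A := D) k
      have hd2' : d2 ≠ 0 := nonZeroDivisors.ne_zero hd2
      have hd2K : algebraMap D K d2 ≠ 0 := fun h => hd2' (hinjDK (by rw [h, map_zero]))
      refine ⟨AdjoinRoot.of _ d1, AdjoinRoot.of _ d2, ?_, ?_⟩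
      · intro h0
        have h1 : ((ψ' (AdjoinRoot.of _ d2) : ↥E) : L) = 0 := by rw [h0]; rfl
        rw [hψ'of, map_eq_zero] at h1
        exact hd2K h1
      · rw [hψ'of, hψ'of, ← map_mul, div_mul_cancel₀ _ hd2K]
    | add z1 z2 _ _ h1 h2 =>
      obtain ⟨b1, b1', hb1, e1⟩ := h1
      obtain ⟨b2, b2', hb2, e2⟩ := h2
      refine ⟨b1 * b2' + b2 * b1', b1' * b2', ?_, ?_⟩
      · rw [map_mul]; exact mul_ne_zero hb1 hb2
      · rw [map_mul, map_add, map_mul, map_mul]
        show (z1 + z2) * (((ψ' b1' : ↥E) : L) * ((ψ' b2' : ↥E) : L)) =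
          ((ψ' b1 : ↥E) : L) * ((ψ' b2' : ↥E) : L) + ((ψ' b2 : ↥E) : L) * ((ψ' b1' : ↥E) : L)
        linear_combination ((ψ' b2' : ↥E) : L) * e1 + ((ψ' b1' : ↥E) : L) * e2
    | mul z1 z2 _ _ h1 h2 =>
      obtain ⟨b1, b1', hb1, e1⟩ := h1
      obtain ⟨b2, b2', hb2, e2⟩ := h2
      refine ⟨b1 * b2, b1' * b2', ?_, ?_⟩
      · rw [map_mul]; exact mul_ne_zero hb1 hb2
      · rw [map_mul, map_mul]
        show (z1 * z2) * (((ψ' b1' : ↥E) : L) * ((ψ' b2' : ↥E) : L)) =
          ((ψ' b1 : ↥E) : L) * ((ψ' b2 : ↥E) : L)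
        linear_combination ((ψ' b2' : ↥E) : L) * z2 * e1 + ((ψ' b1 : ↥E) : L) * e2
  have hψ' : ∀ y : ↥E, ∃ b b' : AdjoinRoot (X ^ e - C c : D[X]), ψ' b' ≠ 0 ∧ y * ψ' b' = ψ' b := by
    intro y
    have hy : (y : L) ∈ Algebra.adjoin K ({t} : Set L) := by
      have h1 : (y : L) ∈ E.toSubalgebra := y.2
      rwa [hE] at h1
    obtain ⟨b, b', hb', e⟩ := key y hy
    exact ⟨b, b', hb', Subtype.ext e⟩
  exact tame_of_unramified_model (A := D) (K := K) (L := ↥E) ψ' hψ'

theorem root_piece (E : IntermediateField K L) [FiniteDimensional K E] (t : L) (htE : t ∈ E)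
    (e : ℕ) (he : 1 ≤ e) (hfr : Module.finrank K E = e) (c : D) (hc : Irreducible c)
    (heu : IsUnit ((e : ℕ) : D)) (ht : t ^ e = algebraMap K L (algebraMap D K c)) :
    IsTamelyRamified D ((algebraMap K ↥E).comp (algebraMap D K)) := by
  have hev : (X ^ e - C c : D[X]).eval₂ ((algebraMap K ↥E).comp (algebraMap D K))
      (⟨t, htE⟩ : ↥E) = 0 := by
    rw [Polynomial.eval₂_sub, Polynomial.eval₂_pow, Polynomial.eval₂_X, Polynomial.eval₂_C]
    apply sub_eq_zero.mpr
    apply Subtype.ext
    show t ^ e = algebraMap K L (algebraMap D K c)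
    exact ht
  have hek : ((e : ℕ) : ResidueField D) ≠ 0 := by
    have h := heu.map (IsLocalRing.residue D)
    rw [map_natCast] at h
    exact h.ne_zero
  exact root_ext_tame hc he hfr (AdjoinRoot.lift _ _ hev) (AdjoinRoot.lift_comp_of hev) hek

theorem core {r : ℕ} (i : Fin r) (a : Fin r → D) (n : Fin r → ℕ) (t : Fin r → L)
    (hn : ∀ j, 1 ≤ n j) (hnu : ∀ j, IsUnit ((n j : ℕ) : D))
    (hai : Irreducible (a i)) (haj : ∀ j, j ≠ i → IsUnit (a j))
    (ht : ∀ j, t j ^ n j = algebraMap K L (algebraMap D K (a j)))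
    (hgen : IntermediateField.adjoin K (Set.range t) = ⊤) :
    IsTamelyRamified D ((algebraMap K L).comp (algebraMap D K)) := by
  classical
  have hinjDK : Function.Injective (algebraMap D K) := IsFractionRing.injective D K
  have hne : ∀ j, a j ≠ 0 := fun j => by
    by_cases h : j = i
    · rw [h]; exact hai.ne_zero
    · exact (haj j h).ne_zero
  have hnK : ∀ j, ((n j : ℕ) : K) ≠ 0 := fun j => by
    have h := (hnu j).map (algebraMap D K)
    rw [map_natCast] at h
    exact h.ne_zero
  have hroot : ∀ j, Polynomial.aeval (t j) (X ^ n j - C (algebraMap D K (a j)) : K[X]) = 0 :=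
    fun j => by
      rw [map_sub, map_pow, Polynomial.aeval_X, Polynomial.aeval_C, ht j, sub_self]
  have hmonic : ∀ j, (X ^ n j - C (algebraMap D K (a j)) : K[X]).Monic := fun j =>
    Polynomial.monic_X_pow_sub_C _ (by have := hn j; omega)
  have hint : ∀ j, IsIntegral K (t j) := fun j =>
    ⟨_, hmonic j, by rw [← Polynomial.aeval_def]; exact hroot j⟩
  have hsepj : ∀ j, IsSeparable K (t j) := fun j =>
    (Polynomial.separable_X_pow_sub_C (algebraMap D K (a j)) (hnK j)
      (fun h => hne j (hinjDK (by rw [h, map_zero])))).of_dvd (minpoly.dvd K (t j) (hroot j))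
  have hE : ∀ j, TameIF D (IntermediateField.adjoin K ({t j} : Set L)) := by
    intro j
    haveI hfd : FiniteDimensional K (IntermediateField.adjoin K ({t j} : Set L)) :=
      IntermediateField.adjoin.finiteDimensional (hint j)
    haveI hsp : Algebra.IsSeparable K (IntermediateField.adjoin K ({t j} : Set L)) :=
      (IntermediateField.isSeparable_adjoin_simple_iff_isSeparable K L).mpr (hsepj j)
    refine ⟨hfd, hsp, ?_⟩
    by_cases hji : j = i
    · have hπ : Irreducible (a j) := by rw [hji]; exact hai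
      have hirr : Irreducible (X ^ n j - C (algebraMap D K (a j)) : K[X]) :=
        fK_irreducible hπ (hn j)
      have hmin : minpoly K (t j) = X ^ n j - C (algebraMap D K (a j)) :=
        (minpoly.eq_of_irreducible_of_monic hirr (hroot j) (hmonic j)).symm
      have hfr : Module.finrank K (IntermediateField.adjoin K ({t j} : Set L)) = n j := by
        rw [IntermediateField.adjoin.finrank (hint j), hmin, Polynomial.natDegree_X_pow_sub_C]
      exact root_piece _ (t j) (IntermediateField.mem_adjoin_simple_self K (t j)) (n j) (hn j) hfr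
        (a j) hπ (hnu j) (ht j)
    · exact unram_piece _ (t j) (IntermediateField.mem_adjoin_simple_self K (t j))
        (IntermediateField.adjoin_simple_toSubalgebra_of_isAlgebraic (hint j).isAlgebraic)
        (n j) (hn j) (a j) (haj j hji) (hnu j) (ht j)
  haveI : Nonempty (Fin r) := ⟨i⟩
  have hsup : TameIF D (⨆ j, IntermediateField.adjoin K ({t j} : Set L)) := TameIF.iSup _ hE
  have htop : (⊤ : IntermediateField K L) ≤ ⨆ j, IntermediateField.adjoin K ({t j} : Set L) := by
    rw [← hgen, IntermediateField.adjoin_le_iff]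
    rintro _ ⟨j, rfl⟩
    exact (le_iSup (fun j => IntermediateField.adjoin K ({t j} : Set L)) j)
      (IntermediateField.mem_adjoin_simple_self K (t j))
  obtain ⟨hfd, hsp, htame⟩ := TameIF.mono htop hsup
  haveI := hfd
  haveI := hsp
  exact (unram_of_algHom D
    ((IntermediateField.topEquiv (F := K) (E := L)).symm.toAlgHom)).1 htame

end Pieces

theorem notMem_span_of_ne {A : Type u} [CommRing A] [IsLocalRing A] {r : ℕ} (f : Fin r → A)
    (hm : ∀ i, f i ∈ maximalIdeal A)
    (hf : LinearIndependent (ResidueField A) (fun i => (maximalIdeal A).toCotangent ⟨f i, hm i⟩))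
    {i j : Fin r} (hji : j ≠ i) : f j ∉ Ideal.span {f i} := by
  intro hmem
  obtain ⟨c, hc⟩ := Ideal.mem_span_singleton'.mp hmem
  have h1 : (⟨f j, hm j⟩ : maximalIdeal A) = c • (⟨f i, hm i⟩ : maximalIdeal A) :=
    Subtype.ext (by show f j = c • f i; rw [smul_eq_mul, hc])
  have h2 : (IsLocalRing.residue A c) • (maximalIdeal A).toCotangent ⟨f i, hm i⟩ =
      (maximalIdeal A).toCotangent ⟨f j, hm j⟩ := by
    rw [h1, map_smul]
    exact algebraMap_smul (ResidueField A) c _
  have h3 := hf.notMem_span_image (s := {i}) (x := j) (by simpa using hji)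
  apply h3
  rw [Set.image_singleton]
  exact Submodule.mem_span_singleton.mpr ⟨_, h2⟩

theorem isDVR_loc {A : Type u} [CommRing A] [IsDomain A] [IsNoetherianRing A] (x : A) (hx : x ≠ 0)
    [hP : (Ideal.span {x}).IsPrime] :
    IsDiscreteValuationRing (Localization.AtPrime (Ideal.span {x})) ∧
      Irreducible (algebraMap A (Localization.AtPrime (Ideal.span {x})) x) := by
  have hmax : maximalIdeal (Localization.AtPrime (Ideal.span {x})) =
      Ideal.span {algebraMap A (Localization.AtPrime (Ideal.span {x})) x} := by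
    rw [← IsLocalization.AtPrime.map_eq_maximalIdeal (Ideal.span {x})
      (Localization.AtPrime (Ideal.span {x})), Ideal.map_span, Set.image_singleton]
  have hinj : Function.Injective (algebraMap A (Localization.AtPrime (Ideal.span {x}))) :=
    IsLocalization.injective _ (Ideal.span {x}).primeCompl_le_nonZeroDivisors
  have hnf : ¬ IsField (Localization.AtPrime (Ideal.span {x})) := by
    rw [IsLocalRing.isField_iff_maximalIdeal_eq, hmax, Ideal.span_singleton_eq_bot]
    intro h0
    exact hx (hinj (by rw [h0, map_zero]))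
  have hdvr : IsDiscreteValuationRing (Localization.AtPrime (Ideal.span {x})) :=
    ((IsDiscreteValuationRing.TFAE _ hnf).out 0 4).mpr
      (show (maximalIdeal (Localization.AtPrime (Ideal.span {x}))).IsPrincipal from ⟨⟨_, hmax⟩⟩)
  haveI := hdvr
  exact ⟨hdvr, (IsDiscreteValuationRing.irreducible_iff_uniformizer _).mpr hmax⟩

theorem assemble {A B : Type u} [CommRing A] [IsDomain A] [CommRing B] (P : Ideal A) [P.IsPrime]
    [IsDiscreteValuationRing (Localization.AtPrime P)]
    (φ : A →+* B) (q : Ideal B) [q.IsPrime] (hq : Ideal.comap φ q = ⊥)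
    {r : ℕ} (i : Fin r) (a : Fin r → A) (n : Fin r → ℕ) (s : Fin r → B)
    (hn : ∀ j, 1 ≤ n j) (hnu : ∀ j, IsUnit ((n j : ℕ) : A))
    (hai : Irreducible (algebraMap A (Localization.AtPrime P) (a i)))
    (haj : ∀ j, j ≠ i → a j ∉ P)
    (hs : ∀ j, s j ^ n j = φ (a j))
    (hB : ∀ S : Subring B, (∀ x, φ x ∈ S) → (∀ j, s j ∈ S) → ∀ b, b ∈ S) :
    EtRam.IsTamelyRamified (Localization.AtPrime P) (SGA1.genericResidueMap φ P q hq) := by
  classical
  obtain ⟨g, hg⟩ : ∃ g : Localization.AtPrime P →+* q.ResidueField,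
      g = SGA1.genericResidueMap φ P q hq := ⟨_, rfl⟩
  rw [← hg]
  have hgA : ∀ x : A, g (algebraMap A (Localization.AtPrime P) x) =
      algebraMap B q.ResidueField (φ x) := by
    intro x
    rw [hg]
    exact IsLocalization.lift_eq _ x
  have hg0inj : Function.Injective ((algebraMap B q.ResidueField).comp φ) := by
    rw [injective_iff_map_eq_zero]
    intro x hx
    have h1 : φ x ∈ q := by
      rw [← Ideal.ker_algebraMap_residueField q, RingHom.mem_ker]
      exact hx
    have h2 : x ∈ Ideal.comap φ q := h1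
    rw [hq, Ideal.mem_bot] at h2
    exact h2
  have hginj : Function.Injective g := by
    rw [injective_iff_map_eq_zero]
    intro z hz
    obtain ⟨x, t, rfl⟩ := IsLocalization.exists_mk'_eq P.primeCompl z
    have h1 : g (IsLocalization.mk' (Localization.AtPrime P) x t) *
        g (algebraMap A (Localization.AtPrime P) (t : A)) =
        g (algebraMap A (Localization.AtPrime P) x) := by
      rw [← map_mul, IsLocalization.mk'_spec]
    rw [hz, zero_mul, hgA] at h1
    have hx0 : x = 0 := hg0inj (by rw [RingHom.comp_apply, ← h1, map_zero])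
    rw [hx0, IsLocalization.mk'_zero]
  letI algKL : Algebra (FractionRing A) q.ResidueField :=
    (IsFractionRing.lift hginj).toAlgebra
  have hKL : ∀ d : Localization.AtPrime P,
      algebraMap (FractionRing A) q.ResidueField
        (algebraMap (Localization.AtPrime P) (FractionRing A) d) = g d :=
    fun d => IsFractionRing.lift_algebraMap hginj d
  have hcomp : (algebraMap (FractionRing A) q.ResidueField).comp
      (algebraMap (Localization.AtPrime P) (FractionRing A)) = g :=
    RingHom.ext hKL
  rw [← hcomp]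
  have hgen : IntermediateField.adjoin (FractionRing A)
      (Set.range fun j => algebraMap B q.ResidueField (s j)) = ⊤ := by
    obtain ⟨E, hEdef⟩ : ∃ E : IntermediateField (FractionRing A)
        q.ResidueField, E = IntermediateField.adjoin (FractionRing A)
      (Set.range fun j => algebraMap B q.ResidueField (s j)) := ⟨_, rfl⟩
    rw [← hEdef, eq_top_iff]
    intro y _
    have hBE : ∀ b : B, algebraMap B q.ResidueField b ∈ E := by
      intro b
      refine hB (E.toSubalgebra.toSubring.comap (algebraMap B q.ResidueField)) ?_ ?_ b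
      · intro x
        show algebraMap B q.ResidueField (φ x) ∈ E
        rw [← hgA, ← hKL]
        exact E.algebraMap_mem _
      · intro j
        show algebraMap B q.ResidueField (s j) ∈ E
        rw [hEdef]
        exact IntermediateField.subset_adjoin _ _ ⟨j, rfl⟩
    obtain ⟨x1, x2, hx2, rfl⟩ := IsFractionRing.div_surjective (A := B ⧸ q) y
    obtain ⟨b1, rfl⟩ := Ideal.Quotient.mk_surjective x1
    obtain ⟨b2, rfl⟩ := Ideal.Quotient.mk_surjective x2
    have e1 : ∀ b : B, algebraMap (B ⧸ q) q.ResidueField (Ideal.Quotient.mk q b) =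
        algebraMap B q.ResidueField b :=
      fun b => (IsScalarTower.algebraMap_apply B (B ⧸ q) q.ResidueField b).symm
    rw [e1, e1]
    exact E.div_mem (hBE b1) (hBE b2)
  refine core i (fun j => algebraMap A (Localization.AtPrime P) (a j)) n
    (fun j => algebraMap B q.ResidueField (s j)) hn ?_ hai ?_ ?_ hgen
  · intro j
    have h := (hnu j).map (algebraMap A (Localization.AtPrime P))
    rwa [map_natCast] at h
  · intro j hji
    exact IsLocalization.map_units (Localization.AtPrime P) (⟨a j, haj j hji⟩ : P.primeCompl)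
  · intro j
    show algebraMap B q.ResidueField (s j) ^ n j =
      algebraMap (FractionRing A) q.ResidueField
        (algebraMap (Localization.AtPrime P) (FractionRing A)
          (algebraMap A (Localization.AtPrime P) (a j)))
    rw [hKL, hgA, ← map_pow, hs]

theorem main (A : Type u) [CommRing A] [IsRegularLocalRing A] [IsDomain A] (r : ℕ) (f : Fin r → A)
    (hm : ∀ i, f i ∈ maximalIdeal A)
    (hf : LinearIndependent (ResidueField A) (fun i => (maximalIdeal A).toCotangent ⟨f i, hm i⟩))
    [∀ i, (Ideal.span {f i}).IsPrime] (n : Fin r → ℕ) (hn : ∀ i, 1 ≤ n i)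
    (hu : ∀ i, IsUnit ((n i : ℕ) : ResidueField A)) :
    SGA1.IsTameAlong f (algebraMap A (SGA1.kummerAlg A f n)) := by
  intro i q hqp hq
  have hfi0 : f i ≠ 0 := by
    intro h0
    apply hf.ne_zero i
    show (maximalIdeal A).toCotangent ⟨f i, hm i⟩ = 0
    have h1 : (⟨f i, hm i⟩ : maximalIdeal A) = 0 := Subtype.ext h0
    rw [h1, map_zero]
  obtain ⟨hdvr, hirr⟩ := isDVR_loc (f i) hfi0
  haveI := hdvr
  have hnuA : ∀ j, IsUnit ((n j : ℕ) : A) := fun j => by
    apply IsUnit.of_map (IsLocalRing.residue A)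
    rw [map_natCast]
    exact hu j
  refine assemble (Ideal.span {f i}) (algebraMap A (SGA1.kummerAlg A f n)) q hq i f n
    (fun j => Ideal.Quotient.mk _ (MvPolynomial.X j)) hn hnuA hirr
    (fun j hji => notMem_span_of_ne f hm hf hji) ?_ ?_
  · intro j
    show Ideal.Quotient.mk _ (MvPolynomial.X j) ^ n j = Ideal.Quotient.mk _ (MvPolynomial.C (f j))
    rw [← map_pow]
    exact Ideal.Quotient.eq.mpr (Ideal.subset_span ⟨j, rfl⟩)
  · intro S hφS hsS b
    obtain ⟨p, rfl⟩ := Ideal.Quotient.mk_surjective b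
    induction p using MvPolynomial.induction_on with
    | C a' => exact hφS a'
    | add p1 p2 h1 h2 => rw [map_add]; exact S.add_mem h1 h2
    | mul_X p j hp => rw [map_mul]; exact S.mul_mem hp (hsS j)

end Groth.Agent.Helper7.KummerTame
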